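import Groth.Agent.NormUniq.Birational
import Groth.Agent.S4989
import Groth.Agent.S2543
import Groth.Agent.S2351

/-! Normalization of integral schemes commutes with smooth base change. -/

universe u

open CategoryTheory CategoryTheory.Limits AlgebraicGeometry TopologicalSpace

set_option autoImplicit false
set_option backward.isDefEq.respectTransparency false
set_option backward.isDefEq.respectTransparency.types false
set_option linter.style.haveILetI false

namespace Groth.Agent.NormSmBC

/-- A morphism from the spectrum of a field with surjective stalk map after composition. -/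
theorem surjective_stalkClosedPointTo_of_comp {L : Type u} [Field L] {P X : Scheme.{u}}
    (j : Spec (CommRingCat.of L) ⟶ P) (g : P ⟶ X) (n : Spec (CommRingCat.of L) ⟶ X)
    (h : j ≫ g = n) (hn : Function.Surjective (Scheme.stalkClosedPointTo n).hom) :
    Function.Surjective (Scheme.stalkClosedPointTo j).hom := by
  subst h
  rw [Scheme.stalkClosedPointTo_comp, CommRingCat.hom_comp, RingHom.coe_comp] at hn
  exact Function.Surjective.of_comp hn

/-- Two automorphism-compatible maps from the spectrum of the function field agree. -/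
theorem field_hom_ext {L : Type u} [Field L] {P X : Scheme.{u}}
    (a b : Spec (CommRingCat.of L) ⟶ P) (g : P ⟶ X)
    (hpt : a (IsLocalRing.closedPoint L) = b (IsLocalRing.closedPoint L)) (w : a ≫ g = b ≫ g)
    (hs : ∀ c : P, c = a (IsLocalRing.closedPoint L) → Function.Surjective (g.stalkMap c).hom) :
    a = b := by
  have hfac : ∀ (t : Spec (CommRingCat.of L) ⟶ P) (c : P), t (IsLocalRing.closedPoint L) = c →
      ∃ u : P.presheaf.stalk c ⟶ CommRingCat.of L, Spec.map u ≫ P.fromSpecStalk c = t := by
    rintro t _ rfl
    exact ⟨_, Scheme.Spec_stalkClosedPointTo_fromSpecStalk t⟩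
  obtain ⟨p, hp⟩ : ∃ p, a (IsLocalRing.closedPoint L) = p := ⟨_, rfl⟩
  obtain ⟨u, rfl⟩ := hfac a p hp
  obtain ⟨v, rfl⟩ := hfac b p (hpt.symm.trans hp)
  have hc := hs p hp.symm
  simp only [Category.assoc, ← Scheme.SpecMap_stalkMap_fromSpecStalk] at w
  rw [← Category.assoc, ← Category.assoc, cancel_mono, ← Spec.map_comp, ← Spec.map_comp,
    Spec.map_inj] at w
  congr 2
  ext z
  obtain ⟨y, rfl⟩ := hc z
  exact congr($w y)

variable {X Y : Scheme.{u}} (f : X ⟶ Y) [Smooth f] [IsIntegral X] [IsIntegral Y]
    [QuasiCompact (Y.fromSpecStalk (genericPoint Y))] [QuasiSeparated (Y.fromSpecStalk (genericPoint Y))]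

theorem map_genericPoint : f (genericPoint X) = genericPoint Y := by
  have hη : genericPoint Y ∈ Set.range f := by
    have ho : IsOpen (Set.range f) := (f.isOpenMap).isOpen_range
    exact (genericPoint_specializes _).mem_open ho ⟨genericPoint X, rfl⟩
  obtain ⟨x, hx⟩ := hη
  exact ((((genericPoint_specializes x).map f.continuous).trans (specializes_of_eq hx)).antisymm
    (genericPoint_specializes _)).eq

theorem isNormalScheme_pullback :
    Pi1.IsNormalScheme (pullback f (Curv2.normalizationι Y)) := by
  obtain ⟨-, hN, -, -⟩ := Groth.Agent.S2351.result Y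
  intro p
  have hp : p ∈ (pullback.snd f (Curv2.normalizationι Y)).smoothLocus := by
    rw [Scheme.Hom.smoothLocus_eq_top_iff.mpr inferInstance]; trivial
  exact (Groth.Agent.S4989.result _ p hp).2.2 (hN _)

theorem exists_iso [QuasiCompact (X.fromSpecStalk (genericPoint X))]
    [QuasiSeparated (X.fromSpecStalk (genericPoint X))] :
    ∃ e : Curv2.normalization X ≅ pullback f (Curv2.normalizationι Y),
      e.hom ≫ pullback.fst f (Curv2.normalizationι Y) = Curv2.normalizationι X := by
  obtain ⟨hint, -, -, hgenN, -⟩ := Groth.Agent.S2351.result Y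
  let ι := Curv2.normalizationι Y
  haveI : IsIntegralHom ι :=
    inferInstanceAs (IsIntegralHom (Y.fromSpecStalk (genericPoint Y)).fromNormalization)
  let n₀ := Y.fromSpecStalk (genericPoint Y)
  let pt : Spec (Y.presheaf.stalk (genericPoint Y)) ⟶ Curv2.normalization Y := n₀.toNormalization
  have hpt : pt ≫ ι = n₀ := n₀.toNormalization_fromNormalization
  let P := pullback f ι
  let φ : pullback f n₀ ⟶ P := pullback.map f n₀ f ι (𝟙 X) pt (𝟙 Y) (by simp) (by simp [hpt])
  have hrange : Set.range φ = pullback.snd f ι ⁻¹' Set.range pt := by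
    rw [Scheme.Pullback.range_map]
    simp
  have hYsub : Subsingleton ↥(Spec (Y.presheaf.stalk (genericPoint Y))) :=
    inferInstanceAs (Subsingleton (PrimeSpectrum Y.functionField))
  have hpt' : pt (IsLocalRing.closedPoint _) = genericPoint (Curv2.normalization Y) :=
    (NormUniq.bijective_stalkClosedPointTo_toNormalization (L := Y.functionField)
      (RingHom.id _) n₀ (by rw [NormFieldX.pnt]; simp; rfl) (fun y => isIntegral_algebraMap (R := Y.functionField))).2.1
  have hptr : Set.range pt = {genericPoint (Curv2.normalization Y)} := by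
    rw [← hpt']
    exact Set.range_eq_iff _ _ |>.2 ⟨fun z => congrArg pt (Subsingleton.elim z _), fun b hb => ⟨_, hb.symm⟩⟩
  rw [hptr] at hrange
  have hfst : φ ≫ pullback.fst f ι = pullback.fst f n₀ := by simp [φ]
  haveI : IrreducibleSpace ↥P := by
    refine Groth.Agent.S2543.result (pullback.snd f ι) (Flat.generalizingMap _) ?_
    rw [← hrange, ← Set.image_univ]
    refine IsIrreducible.image ?_ _ φ.continuous.continuousOn
    have hem := (pullback.fst f n₀).isEmbedding
    have hr : Set.range (pullback.fst f n₀) = f ⁻¹' {genericPoint Y} := by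
      rw [Scheme.Pullback.range_fst, Scheme.range_fromSpecStalk]
      ext x
      exact ⟨fun h => (h.antisymm (genericPoint_specializes _)).eq, fun h => specializes_of_eq h⟩
    have hirr : IsIrreducible (Set.range (pullback.fst f n₀)) := by
      rw [hr]
      refine ⟨⟨genericPoint X, map_genericPoint f⟩, fun U V hU hV ⟨a, _, ha⟩ ⟨b, _, hb⟩ =>
        ⟨genericPoint X, map_genericPoint f, (genericPoint_specializes a).mem_open hU ha,
          (genericPoint_specializes b).mem_open hV hb⟩⟩
    refine ⟨?_, fun U V hU hV ⟨a, _, ha⟩ ⟨b, _, hb⟩ => ?_⟩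
    · obtain ⟨_, ⟨z, -⟩⟩ := hirr.1
      exact ⟨z, trivial⟩
    obtain ⟨U', hU', rfl⟩ := hem.isInducing.isOpen_iff.mp hU
    obtain ⟨V', hV', rfl⟩ := hem.isInducing.isOpen_iff.mp hV
    obtain ⟨_, ⟨z, rfl⟩, hz⟩ := hirr.2 U' V' hU' hV' ⟨_, ⟨a, rfl⟩, ha⟩ ⟨_, ⟨b, rfl⟩, hb⟩
    exact ⟨z, trivial, hz⟩
  have hPn := isNormalScheme_pullback f
  haveI : IsIntegral P := NormUniq.isIntegral_of_normal hPn inferInstance
  let s : Spec (X.presheaf.stalk (genericPoint X)) ⟶ Spec (Y.presheaf.stalk (genericPoint Y)) :=
    Spec.map (Y.presheaf.stalkSpecializes (specializes_of_eq (map_genericPoint f)) ≫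
      f.stalkMap (genericPoint X))
  have hs : s ≫ n₀ = X.fromSpecStalk (genericPoint X) ≫ f := by
    simp only [s, n₀, Spec.map_comp, Category.assoc, Scheme.SpecMap_stalkSpecializes_fromSpecStalk,
      Scheme.SpecMap_stalkMap_fromSpecStalk]
  let j₀ : Spec (X.presheaf.stalk (genericPoint X)) ⟶ pullback f n₀ :=
    pullback.lift (X.fromSpecStalk (genericPoint X)) s hs.symm
  let j : Spec (CommRingCat.of X.functionField) ⟶ P := j₀ ≫ φ
  have hj : j ≫ pullback.fst f ι = X.fromSpecStalk (genericPoint X) := by
    simp [j, j₀, hfst]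
  obtain ⟨c, hc⟩ : genericPoint P ∈ Set.range φ := by
    rw [hrange]
    have h0 : φ (j₀ (IsLocalRing.closedPoint _)) ∈ pullback.snd f ι ⁻¹' {genericPoint (Curv2.normalization Y)} :=
      hrange.le ⟨_, rfl⟩
    exact ((((genericPoint_specializes _).map (pullback.snd f ι).continuous).trans
      (specializes_of_eq h0)).antisymm (genericPoint_specializes _)).eq
  have hjη : j (IsLocalRing.closedPoint X.functionField) = genericPoint P := by
    have h1 : pullback.fst f ι (genericPoint P) = genericPoint X := by
      refine (((genericPoint_specializes (φ (j₀ (IsLocalRing.closedPoint _)))).map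
        (pullback.fst f ι).continuous).trans (specializes_of_eq ?_) |>.antisymm (genericPoint_specializes _)).eq
      rw [← Scheme.Hom.comp_apply, ← Scheme.Hom.comp_apply, hfst, pullback.lift_fst]
      exact Scheme.fromSpecStalk_closedPoint
    rw [← hc]
    show φ (j₀ _) = φ c
    refine congrArg φ ((pullback.fst f n₀).isEmbedding.injective ?_)
    rw [← Scheme.Hom.comp_apply, pullback.lift_fst, Scheme.fromSpecStalk_closedPoint, ← h1, ← hc,
      ← Scheme.Hom.comp_apply, hfst]
  have hbij : Function.Bijective (Scheme.stalkClosedPointTo j).hom := by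
    have hF : IsField (P.presheaf.stalk (j (IsLocalRing.closedPoint X.functionField))) := by
      rw [hjη]; exact Field.toIsField P.functionField
    refine ⟨?_, surjective_stalkClosedPointTo_of_comp j _ _ hj
      (NormUniq.surjective_of_isPreimmersion _)⟩
    letI := hF.toField
    exact (Scheme.stalkClosedPointTo j).hom.injective
  obtain ⟨e, he, -⟩ := NormUniq.exists_iso (L := X.functionField) (RingHom.id _)
    (X.fromSpecStalk (genericPoint X)) (by rw [NormFieldX.pnt]; simp)
    (fun y => isIntegral_algebraMap (R := X.functionField)) hPn (pullback.fst f ι) j hj hjη hbij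
  exact ⟨e, he⟩

theorem aut_eq_id [QuasiCompact (X.fromSpecStalk (genericPoint X))]
    [QuasiSeparated (X.fromSpecStalk (genericPoint X))]
    (σ : Curv2.normalization X ⟶ Curv2.normalization X) [IsIso σ]
    (h : σ ≫ Curv2.normalizationι X = Curv2.normalizationι X) : σ = 𝟙 _ := by
  let n := X.fromSpecStalk (genericPoint X)
  obtain ⟨hint, -⟩ := Groth.Agent.S2351.result X
  obtain ⟨hc, hη, -, -⟩ := NormUniq.bijective_stalkClosedPointTo_toNormalization (L := X.functionField)
    (RingHom.id _) n (by rw [NormFieldX.pnt]; simp; rfl) (fun y => isIntegral_algebraMap (R := X.functionField))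
  haveI : IsIntegralHom (Curv2.normalizationι X) :=
    inferInstanceAs (IsIntegralHom n.fromNormalization)
  refine Scheme.Hom.normalization.hom_ext n σ (𝟙 _) (Curv2.normalizationι X) ?_ h (Category.id_comp _)
  have hσ : σ (n.toNormalization (IsLocalRing.closedPoint X.functionField)) = genericPoint n.normalization :=
    (congrArg σ hη).trans (genericPoint_eq_of_isOpenImmersion σ)
  refine field_hom_ext (L := X.functionField) _ _ (Curv2.normalizationι X) ?_ ?_ ?_
  · exact hσ.trans hη.symm
  · rw [Category.assoc, h, Category.comp_id]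
  · intro c hc'
    obtain rfl : c = genericPoint n.normalization := hc'.trans hσ
    haveI := NormUniq.isIso_stalkMap_fromNormalization n rfl
    exact (ConcreteCategory.bijective_of_isIso (n.fromNormalization.stalkMap (genericPoint n.normalization))).2

end Groth.Agent.NormSmBC
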